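import Cfsg.Agent.Helper2.SchSp62.Tab

set_option autoImplicit false
set_option linter.all false
set_option maxRecDepth 1000000
set_option maxHeartbeats 0

namespace Cfsg.Agent.Helper2.SchSp62

theorem okR0 : OKR (0 * 1000) 1000 := by decide +kernel
theorem okR1 : OKR (1 * 1000) 1000 := by decide +kernel
theorem okR2 : OKR (2 * 1000) 1000 := by decide +kernel
theorem okR3 : OKR (3 * 1000) 1000 := by decide +kernel

end Cfsg.Agent.Helper2.SchSp62
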