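import Mathlib
import Cfsg.Agent.Helper19.TCR.Lab
import Cfsg.Agent.Helper2.SchSp62.Chk0
import Cfsg.Agent.Helper2.SchSp62.Chk1
import Cfsg.Agent.Helper2.SchSp62.Chk2
import Cfsg.Agent.Helper2.SchSp62.Chk3
import Cfsg.Agent.Helper2.SchSp62.Chk4
import Cfsg.Agent.Helper2.SchSp62.Chk5
import Cfsg.Agent.Helper2.SchSp62.Chk6
import Cfsg.Agent.Helper2.SchSp62.Chk7
import Cfsg.Agent.Helper2.SchSp62.Chk8
import Cfsg.Agent.Helper2.SchSp62.Chk9
import Cfsg.Agent.Helper2.SchSp62.Chk10
import Cfsg.Agent.Helper2.SchSp62.Chk11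
import Cfsg.Agent.Helper2.SchSp62.Chk12
import Cfsg.Agent.Helper2.SchSp62.Chk13
import Cfsg.Agent.Helper2.SchSp62.Chk14
import Cfsg.Agent.Helper2.SchSp62.Chk15
import Cfsg.Agent.Helper2.SchSp62.Chk16
import Cfsg.Agent.Helper2.SchSp62.Chk17
import Cfsg.Agent.Helper2.SchSp62.Chk18
import Cfsg.Agent.Helper2.SchSp62.Chk19
import Cfsg.Agent.Helper2.SchSp62.Chk20
import Cfsg.Agent.Helper2.SchSp62.Chk21
import Cfsg.Agent.Helper2.SchSp62.Chk22
import Cfsg.Agent.Helper2.SchSp62.Chk23
import Cfsg.Agent.Helper2.SchSp62.Chk24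
import Cfsg.Agent.Helper2.SchSp62.Chk25
import Cfsg.Agent.Helper2.SchSp62.Chk26
import Cfsg.Agent.Helper2.SchSp62.Chk27
import Cfsg.Agent.Helper2.SchSp62.Chk28
import Cfsg.Agent.Helper2.SchSp62.Chk29
import Cfsg.Agent.Helper2.SchSp62.Chk30
import Cfsg.Agent.Helper2.SchSp62.Chk31
import Cfsg.Agent.Helper2.SchSp62.Chk32
import Cfsg.Agent.Helper2.SchSp62.Chk33
import Cfsg.Agent.Helper2.SchSp62.Chk34
import Cfsg.Agent.Helper2.SchSp62.Chk35
import Cfsg.Agent.Helper2.SchSp62.Chk36
import Cfsg.Agent.Helper2.SchSp62.Chk37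
import Cfsg.Agent.Helper2.SchSp62.Chk38
import Cfsg.Agent.Helper2.SchSp62.Chk39
import Cfsg.Agent.Helper2.SchSp62.Chk40
import Cfsg.Agent.Helper2.SchSp62.ChkT

set_option autoImplicit false
set_option linter.all false
set_option maxRecDepth 1000000
set_option maxHeartbeats 0

namespace Cfsg.Agent.Helper2.SchSp62

open Cfsg.Agent.Helper19.TCS Cfsg.Agent.Helper19.TCL

theorem okR_all : ∀ p, p < 162 → OKR (p * 1000) 1000 := by
  intro p hp
  interval_cases p
  · exact okR0
  · exact okR1
  · exact okR2
  · exact okR3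
  · exact okR4
  · exact okR5
  · exact okR6
  · exact okR7
  · exact okR8
  · exact okR9
  · exact okR10
  · exact okR11
  · exact okR12
  · exact okR13
  · exact okR14
  · exact okR15
  · exact okR16
  · exact okR17
  · exact okR18
  · exact okR19
  · exact okR20
  · exact okR21
  · exact okR22
  · exact okR23
  · exact okR24
  · exact okR25
  · exact okR26
  · exact okR27
  · exact okR28
  · exact okR29
  · exact okR30
  · exact okR31
  · exact okR32
  · exact okR33
  · exact okR34
  · exact okR35
  · exact okR36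
  · exact okR37
  · exact okR38
  · exact okR39
  · exact okR40
  · exact okR41
  · exact okR42
  · exact okR43
  · exact okR44
  · exact okR45
  · exact okR46
  · exact okR47
  · exact okR48
  · exact okR49
  · exact okR50
  · exact okR51
  · exact okR52
  · exact okR53
  · exact okR54
  · exact okR55
  · exact okR56
  · exact okR57
  · exact okR58
  · exact okR59
  · exact okR60
  · exact okR61
  · exact okR62
  · exact okR63
  · exact okR64
  · exact okR65
  · exact okR66
  · exact okR67
  · exact okR68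
  · exact okR69
  · exact okR70
  · exact okR71
  · exact okR72
  · exact okR73
  · exact okR74
  · exact okR75
  · exact okR76
  · exact okR77
  · exact okR78
  · exact okR79
  · exact okR80
  · exact okR81
  · exact okR82
  · exact okR83
  · exact okR84
  · exact okR85
  · exact okR86
  · exact okR87
  · exact okR88
  · exact okR89
  · exact okR90
  · exact okR91
  · exact okR92
  · exact okR93
  · exact okR94
  · exact okR95
  · exact okR96
  · exact okR97
  · exact okR98
  · exact okR99
  · exact okR100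
  · exact okR101
  · exact okR102
  · exact okR103
  · exact okR104
  · exact okR105
  · exact okR106
  · exact okR107
  · exact okR108
  · exact okR109
  · exact okR110
  · exact okR111
  · exact okR112
  · exact okR113
  · exact okR114
  · exact okR115
  · exact okR116
  · exact okR117
  · exact okR118
  · exact okR119
  · exact okR120
  · exact okR121
  · exact okR122
  · exact okR123
  · exact okR124
  · exact okR125
  · exact okR126
  · exact okR127
  · exact okR128
  · exact okR129
  · exact okR130
  · exact okR131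
  · exact okR132
  · exact okR133
  · exact okR134
  · exact okR135
  · exact okR136
  · exact okR137
  · exact okR138
  · exact okR139
  · exact okR140
  · exact okR141
  · exact okR142
  · exact okR143
  · exact okR144
  · exact okR145
  · exact okR146
  · exact okR147
  · exact okR148
  · exact okR149
  · exact okR150
  · exact okR151
  · exact okR152
  · exact okR153
  · exact okR154
  · exact okR155
  · exact okR156
  · exact okR157
  · exact okR158
  · exact okR159
  · exact okR160
  · exact okR161

theorem okT_all : ∀ p, p < 9 → OKT (p * 20000) 20000 := by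
  intro p hp
  interval_cases p
  · exact okT0
  · exact okT1
  · exact okT2
  · exact okT3
  · exact okT4
  · exact okT5
  · exact okT6
  · exact okT7
  · exact okT8

theorem okAll : ∀ i l, i < 161280 → l < 4 → OKE i l := by
  intro i l hi hl
  have hp : i / 1000 < 162 := by omega
  have h1 : i / 1000 * 1000 ≤ i := Nat.div_mul_le_self i 1000
  have h2 : i < i / 1000 * 1000 + 1000 := by omega
  exact okRowsL_spec (i / 1000 * 1000) 1000 (okR_all (i / 1000) hp) i h1 h2 hi l hl

theorem treeAll : ∀ j, 0 < j → j < 161280 → parF j < j := by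
  intro j h0 hj
  have hp : j / 20000 < 9 := by omega
  have h1 : j / 20000 * 20000 ≤ j := Nat.div_mul_le_self j 20000
  have h2 : j < j / 20000 * 20000 + 20000 := by omega
  exact okTree_spec (j / 20000 * 20000) 20000 (okT_all (j / 20000) hp) j h1 h2 h0 hj

theorem rotsF_ok : ∀ r, r < 24 → rotsF r = rotL.getD r ([], 0, 0) := by
  have h : (List.range 24).all (fun r => rotsF r == rotL.getD r ([], 0, 0)) = true := by decide +kernel
  intro r hr
  have := forall_lt_of_all h r hr
  exact beq_iff_eq.mp this

theorem rotL_ok : (List.range 24).all (fun r =>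
    rotOKL 4 subs.length 7 262144 4096 2048 rels (rotL.getD r ([], 0, 0)) (rotIdx.getD r (0, 0))) = true := by
  decide +kernel

theorem subL_ok : (List.range subL.length).all (fun s =>
    subOKL 4 7 262144 4096 2048 subs (subL.getD s ([], 0, [], 0)) (subIdx.getD s 0)) = true := by
  decide +kernel

theorem subsF_ok : ∀ s, (subsF s).2.1 < 4 → s < subL.length ∧ subsF s = subL.getD s ([], 0, [], 0) := by
  intro s hs
  unfold subsF at hs ⊢
  by_cases h : s < subL.length
  · refine ⟨h, ?_⟩
    rw [List.getD_eq_getElem _ _ h, List.getD_eq_getElem _ _ h]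
  · rw [List.getD_eq_default _ _ (not_lt.mp h)] at hs
    simp at hs

/-- the labelled table is closed, for any group with generators `gc` whose relator values are central. -/
theorem closedL {Γ : Type*} [Group Γ] {C : Type*} [CommGroup C] (gc : ℕ → Γ) (ι : C →* Γ) (gen : ℕ → C)
    (hinv : ∀ l, l < 4 → gc (invF l) = (gc l)⁻¹)
    (hrels : ∀ ρ, ρ < rels.length → prodw gc (rels.getD ρ []) = ι (gen (subs.length + ρ)) ∧
      ∀ g : Γ, Commute (prodw gc (rels.getD ρ [])) g)
    (hsubs : ∀ s, s < subs.length → prodw gc (subs.getD s []) = ι (gen s)) :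
    SemL 161280 4 524288 7 262144 4096 2048 664616533203329836361252442388563968 invF 24 rotsF subsF gc ι gen ∧
      ∀ i l, i < 161280 → l < 4 → FactL gc ι gen 161280 262144 4398046511104 7 262144 4096 2048 ent parF pletF i l := by
  have S : SemL 161280 4 524288 7 262144 4096 2048 664616533203329836361252442388563968 invF 24 rotsF subsF gc ι gen :=
    semL_of_data rels subs rotL rotIdx subL subIdx
      (by intro l hl; interval_cases l <;> decide) hinv (by norm_num) (by norm_num) (by norm_num)
      (by decide +kernel) (by norm_num) (by norm_num) rotsF_ok rotL_ok hrels subsF_ok subL_ok hsubs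
  exact ⟨S, closed_of_okL S treeAll okAll⟩


theorem face0 {Γ : Type*} [Group Γ] {C : Type*} [CommGroup C] (gc : ℕ → Γ) (ι : C →* Γ) (gen : ℕ → C)
    (hinv : ∀ l, l < 4 → gc (invF l) = (gc l)⁻¹)
    (hrels : ∀ ρ, ρ < rels.length → prodw gc (rels.getD ρ []) = ι (gen (subs.length + ρ)) ∧
      ∀ g : Γ, Commute (prodw gc (rels.getD ρ [])) g)
    (hsubs : ∀ s, s < subs.length → prodw gc (subs.getD s []) = ι (gen s)) :
    ι (gen (subs.length + 1)) = ι (dsem gen 2048 2 0 [4096, 4096, 4096, 4095, 4096, 4096, 4097]) := by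
  obtain ⟨S, hcl⟩ := closedL gc ι gen hinv hrels hsubs
  have hw : [2, 2] = (rels.getD 1 []).rotate 0 := by decide
  obtain ⟨h1, h2⟩ := hrels 1 (by decide)
  have hcen : ∀ g : Γ, Commute (prodw gc [2, 2]) g := by
    rw [hw, prodw_rotate_central h2]; exact h2
  have h3 := face_spec S hcl (w := [2, 2]) (b := 79046) (expected := 1329557584960318099431273642288222208) (by norm_num) (by decide) (by norm_num)
    [4096, 4096, 4096, 4095, 4096, 4096, 4097] (by decide) (by decide) (by decide +kernel) hcen okF0
  rw [← h1, ← prodw_rotate_central h2 0, ← hw]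
  exact h3


theorem face1 {Γ : Type*} [Group Γ] {C : Type*} [CommGroup C] (gc : ℕ → Γ) (ι : C →* Γ) (gen : ℕ → C)
    (hinv : ∀ l, l < 4 → gc (invF l) = (gc l)⁻¹)
    (hrels : ∀ ρ, ρ < rels.length → prodw gc (rels.getD ρ []) = ι (gen (subs.length + ρ)) ∧
      ∀ g : Γ, Commute (prodw gc (rels.getD ρ [])) g)
    (hsubs : ∀ s, s < subs.length → prodw gc (subs.getD s []) = ι (gen s)) :
    ι (gen (subs.length + 2)) = ι (dsem gen 2048 12 0 [24576, 24576, 24575, 24578, 24576, 24575, 24576]) := by
  obtain ⟨S, hcl⟩ := closedL gc ι gen hinv hrels hsubs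
  have hw : [2, 1, 2, 0, 2, 1, 2, 0, 2, 1, 2, 0] = (rels.getD 2 []).rotate 1 := by decide
  obtain ⟨h1, h2⟩ := hrels 2 (by decide)
  have hcen : ∀ g : Γ, Commute (prodw gc [2, 1, 2, 0, 2, 1, 2, 0, 2, 1, 2, 0]) g := by
    rw [hw, prodw_rotate_central h2]; exact h2
  have h3 := face_spec S hcl (w := [2, 1, 2, 0, 2, 1, 2, 0, 2, 1, 2, 0]) (b := 29598) (expected := 7975398397202017997085677762063130624) (by norm_num) (by decide) (by norm_num)
    [24576, 24576, 24575, 24578, 24576, 24575, 24576] (by decide) (by decide) (by decide +kernel) hcen okF1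
  rw [← h1, ← prodw_rotate_central h2 1, ← hw]
  exact h3


theorem face2 {Γ : Type*} [Group Γ] {C : Type*} [CommGroup C] (gc : ℕ → Γ) (ι : C →* Γ) (gen : ℕ → C)
    (hinv : ∀ l, l < 4 → gc (invF l) = (gc l)⁻¹)
    (hrels : ∀ ρ, ρ < rels.length → prodw gc (rels.getD ρ []) = ι (gen (subs.length + ρ)) ∧
      ∀ g : Γ, Commute (prodw gc (rels.getD ρ [])) g)
    (hsubs : ∀ s, s < subs.length → prodw gc (subs.getD s []) = ι (gen s)) :
    ι (gen (subs.length + 1)) = ι (dsem gen 2048 2 0 [4096, 4096, 4093, 4096, 4096, 4098, 4096]) := by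
  obtain ⟨S, hcl⟩ := closedL gc ι gen hinv hrels hsubs
  have hw : [2, 2] = (rels.getD 1 []).rotate 0 := by decide
  obtain ⟨h1, h2⟩ := hrels 1 (by decide)
  have hcen : ∀ g : Γ, Commute (prodw gc [2, 2]) g := by
    rw [hw, prodw_rotate_central h2]; exact h2
  have h3 := face_spec S hcl (w := [2, 2]) (b := 633) (expected := 1329233068882539751293265228416946176) (by norm_num) (by decide) (by norm_num)
    [4096, 4096, 4093, 4096, 4096, 4098, 4096] (by decide) (by decide) (by decide +kernel) hcen okF2
  rw [← h1, ← prodw_rotate_central h2 0, ← hw]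
  exact h3


theorem face3 {Γ : Type*} [Group Γ] {C : Type*} [CommGroup C] (gc : ℕ → Γ) (ι : C →* Γ) (gen : ℕ → C)
    (hinv : ∀ l, l < 4 → gc (invF l) = (gc l)⁻¹)
    (hrels : ∀ ρ, ρ < rels.length → prodw gc (rels.getD ρ []) = ι (gen (subs.length + ρ)) ∧
      ∀ g : Γ, Commute (prodw gc (rels.getD ρ [])) g)
    (hsubs : ∀ s, s < subs.length → prodw gc (subs.getD s []) = ι (gen s)) :
    ι (gen (subs.length + 2)) = ι (dsem gen 2048 12 0 [24576, 24590, 24577, 24591, 24558, 24576, 24581]) := by
  obtain ⟨S, hcl⟩ := closedL gc ι gen hinv hrels hsubs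
  have hw : [2, 1, 2, 0, 2, 1, 2, 0, 2, 1, 2, 0] = (rels.getD 2 []).rotate 1 := by decide
  obtain ⟨h1, h2⟩ := hrels 2 (by decide)
  have hcen : ∀ g : Γ, Commute (prodw gc [2, 1, 2, 0, 2, 1, 2, 0, 2, 1, 2, 0]) g := by
    rw [hw, prodw_rotate_central h2]; exact h2
  have h3 := face_spec S hcl (w := [2, 1, 2, 0, 2, 1, 2, 0, 2, 1, 2, 0]) (b := 148414) (expected := 7977020991208165167642469481517178880) (by norm_num) (by decide) (by norm_num)
    [24576, 24590, 24577, 24591, 24558, 24576, 24581] (by decide) (by decide) (by decide +kernel) hcen okF3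
  rw [← h1, ← prodw_rotate_central h2 1, ← hw]
  exact h3

end Cfsg.Agent.Helper2.SchSp62
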