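import Mathlib
import Cfsg.Agent.Helper2.SpPerfect
import Cfsg.Agent.Helper19.Schur.Basic

/-! Two generators of `Sp₆(2)` (standard generators `a ∈ 2A`, `b ∈ 7A` of the ATLAS, taken as
`x = (ab)⁻¹`, `y = a`) as explicit matrices, and a presentation on them. -/

set_option autoImplicit false
set_option linter.all false
set_option maxRecDepth 100000

namespace Cfsg.Agent.Helper2.SchSp62

open Matrix Cfsg.Agent.Helper2.Sp Cfsg.Agent.Helper19.TCS Cfsg.Agent.Helper19.Schur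

abbrev I3 : Type := Fin 3 ⊕ Fin 3

/-- position of an index -/
def idx : I3 → ℕ
  | .inl i => i
  | .inr i => i + 3

/-- the matrix with given rows (bit `j` of row `i` is the entry `(i, j)`) -/
def ofRows (r : List ℕ) : Matrix I3 I3 (ZMod 2) :=
  fun i j => (((r.getD (idx i) 0) >>> (idx j) % 2 : ℕ) : ZMod 2)

def xRows : List ℕ := [27, 32, 56, 43, 46, 17]
def yRows : List ℕ := [1, 51, 53, 57, 16, 32]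

theorem x_mem : ofRows xRows ∈ symplecticGroup (Fin 3) (ZMod 2) := by
  rw [SymplecticGroup.mem_iff]
  decide +kernel

theorem y_mem : ofRows yRows ∈ symplecticGroup (Fin 3) (ZMod 2) := by
  rw [SymplecticGroup.mem_iff]
  decide +kernel

/-- the first generator (of order 9) -/
def xG : symplecticGroup (Fin 3) (ZMod 2) := ⟨ofRows xRows, x_mem⟩
/-- the second generator (a transvection) -/
def yG : symplecticGroup (Fin 3) (ZMod 2) := ⟨ofRows yRows, y_mem⟩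

def relsG : List (List ℕ) :=
  [[0, 0, 0, 0, 0, 0, 0, 0, 0], [2, 2], [0, 2, 1, 2, 0, 2, 1, 2, 0, 2, 1, 2],
   [0, 2, 0, 2, 0, 2, 0, 2, 0, 2, 0, 2, 0, 2],
   [0, 0, 0, 2, 1, 1, 1, 2, 0, 0, 0, 2, 1, 1, 1, 2],
   [0, 2, 0, 2, 1, 2, 1, 2, 0, 2, 0, 2, 1, 2, 1, 2]]

theorem hrelG : ∀ w ∈ relsG, prodw (gc2 xG yG) w = 1 := by
  decide +kernel


/-! ### Generation -/

/-- the vector with given bits -/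
def vecOf (n : ℕ) : I3 → ZMod 2 := fun i => ((n >>> idx i % 2 : ℕ) : ZMod 2)

/-- words for the 63 transvections -/
def tvTab : List (List ℕ) :=
  [[],
   [0, 0, 2, 0, 2, 1, 2, 1, 1],
   [1, 1, 1, 2, 0, 0, 0],
   [2, 0, 0, 2, 1, 1, 2],
   [0, 2, 0, 0, 2, 0, 0, 2, 0, 0, 2, 1, 1, 2, 1, 1, 2, 1, 1, 2, 1],
   [0, 2, 1, 1, 2, 1, 2, 0, 2, 0, 0, 2, 1],
   [1, 2, 0, 2, 0, 0, 2, 0, 0, 2, 1, 1, 2, 1, 1, 2, 1, 2, 0],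
   [1, 2, 1, 1, 2, 1, 1, 2, 0, 0, 2, 0, 0, 2, 0],
   [1, 1, 1, 1, 2, 1, 2, 0, 2, 0, 0, 0, 0],
   [2, 1, 2, 1, 1, 2, 1, 1, 2, 0, 0, 2, 0, 0, 2, 0, 2],
   [1, 2, 1, 1, 2, 1, 1, 2, 1, 1, 2, 0, 0, 2, 0, 0, 2, 0, 0, 2, 0],
   [2, 0, 2, 1, 1, 2, 1, 2, 0, 2, 0, 0, 2, 1, 2],
   [0, 0, 0, 2, 1, 1, 1],
   [0, 0, 2, 1, 1],
   [2],
   [2, 0, 0, 2, 0, 2, 1, 2, 1, 1, 2],
   [2, 0, 0, 2, 0, 0, 2, 0, 0, 2, 1, 1, 2, 1, 1, 2, 1, 1, 2],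
   [0, 0, 0, 0, 2, 1, 1, 1, 1],
   [2, 0, 0, 2, 0, 0, 2, 1, 1, 2, 1, 1, 2],
   [1, 1, 1, 2, 1, 1, 2, 0, 0, 2, 0, 0, 0],
   [1, 2, 0],
   [0, 0, 0, 2, 0, 0, 2, 1, 1, 2, 1, 1, 1],
   [1, 2, 1, 1, 2, 0, 0, 2, 0],
   [1, 2, 0, 2, 0, 0, 2, 1, 1, 2, 1, 2, 0],
   [2, 1, 2, 1, 1, 2, 0, 0, 2, 0, 2],
   [1, 1, 1, 1, 2, 0, 0, 0, 0],
   [2, 1, 2, 0, 2],
   [1, 1, 1, 2, 1, 2, 0, 2, 0, 0, 0],
   [0, 0, 2, 0, 0, 2, 1, 1, 2, 1, 1],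
   [0, 0, 0, 2, 0, 2, 1, 2, 1, 1, 1],
   [0, 0, 2, 0, 0, 2, 0, 0, 2, 1, 1, 2, 1, 1, 2, 1, 1],
   [0, 2, 1, 2, 1, 1, 2, 0, 0, 2, 0, 2, 1],
   [1, 1, 2, 1, 1, 2, 1, 1, 2, 0, 0, 2, 0, 0, 2, 0, 0],
   [1, 2, 1, 2, 0, 2, 0],
   [2, 1, 1, 2, 1, 1, 2, 0, 0, 2, 0, 0, 2],
   [0, 2, 1, 1, 2, 1, 1, 2, 1, 1, 2, 0, 0, 2, 0, 0, 2, 0, 0, 2, 1],
   [0, 2, 1],
   [1, 2, 0, 0, 2, 0, 0, 2, 0, 0, 2, 1, 1, 2, 1, 1, 2, 1, 1, 2, 0],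
   [2, 0, 2, 0, 0, 2, 1, 1, 2, 1, 2],
   [1, 1, 2, 0, 0, 2, 0, 0, 2, 0, 0, 2, 1, 1, 2, 1, 1, 2, 1, 1, 2, 0, 0],
   [0, 2, 0, 0, 2, 1, 1, 2, 1],
   [0, 2, 0, 2, 1, 2, 1],
   [2, 0, 2, 1, 2],
   [0, 2, 1, 2, 0, 0, 2, 0, 2, 1, 2, 1, 1, 2, 0, 2, 1],
   [1, 1, 2, 1, 1, 2, 0, 0, 2, 0, 0],
   [1, 2, 0, 2, 1, 1, 2, 1, 2, 0, 2, 0, 0, 2, 1, 2, 0],
   [2, 1, 1, 2, 1, 1, 2, 1, 1, 2, 0, 0, 2, 0, 0, 2, 0, 0, 2],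
   [0, 0, 2, 1, 1, 2, 1, 1, 2, 1, 1, 2, 0, 0, 2, 0, 0, 2, 0, 0, 2, 1, 1],
   [1, 2, 0, 0, 2, 1, 1, 2, 0],
   [0, 2, 0, 0, 2, 0, 0, 2, 1, 1, 2, 1, 1, 2, 1],
   [0, 2, 1, 1, 2, 1, 1, 2, 0, 0, 2, 0, 0, 2, 1],
   [2, 1, 2, 0, 0, 2, 0, 2, 1, 2, 1, 1, 2, 0, 2],
   [1, 2, 1, 2, 1, 1, 2, 1, 1, 2, 0, 0, 2, 0, 0, 2, 0, 2, 0],
   [1, 1, 2, 0, 0],
   [1, 1, 2, 0, 0, 2, 0, 0, 2, 1, 1, 2, 1, 1, 2, 0, 0],
   [1, 1, 2, 1, 2, 0, 2, 0, 0],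
   [1, 2, 1, 2, 1, 1, 2, 0, 0, 2, 0, 2, 0],
   [2, 1, 1, 2, 1, 2, 0, 2, 0, 0, 2],
   [1, 1, 2, 0, 2, 1, 1, 2, 1, 2, 0, 2, 0, 0, 2, 1, 2, 0, 0],
   [2, 1, 1, 2, 0, 0, 2],
   [1, 2, 0, 0, 2, 0, 0, 2, 1, 1, 2, 1, 1, 2, 0],
   [1, 2, 0, 0, 2, 0, 2, 1, 2, 1, 1, 2, 0],
   [1, 1, 1, 2, 0, 0, 2, 0, 0, 2, 0, 0, 2, 1, 1, 2, 1, 1, 2, 1, 1, 2, 0, 0, 0],
   [2, 0, 2, 0, 0, 2, 0, 0, 2, 1, 1, 2, 1, 1, 2, 1, 2]]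

theorem tv_words : ∀ n, n < 64 →
    (Tg (vecOf n) 1 : symplecticGroup (Fin 3) (ZMod 2)) = prodw (gc2 xG yG) (tvTab.getD n []) := by
  decide +kernel

theorem vecOf_surj : ∀ v : I3 → ZMod 2, ∃ n, n < 64 ∧ vecOf n = v := by
  decide +kernel

theorem prodw_mem_closure' {Γ : Type*} [Group Γ] (A B : Γ) (w : List ℕ) :
    prodw (gc2 A B) w ∈ Subgroup.closure ({A, B} : Set Γ) := by
  have hA : A ∈ Subgroup.closure ({A, B} : Set Γ) := Subgroup.subset_closure (by simp)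
  have hB : B ∈ Subgroup.closure ({A, B} : Set Γ) := Subgroup.subset_closure (by simp)
  induction w with
  | nil => exact one_mem _
  | cons l w ih =>
    rw [prodw]
    apply mul_mem ih
    unfold gc2
    split
    · exact hA
    · exact inv_mem hA
    · exact hB
    · exact inv_mem hB
    · exact one_mem _

theorem closure_xy : Subgroup.closure {xG, yG} = (⊤ : Subgroup (symplecticGroup (Fin 3) (ZMod 2))) := by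
  rw [eq_top_iff, ← TV_eq_top (Fin 3) (ZMod 2)]
  unfold TV
  rw [Subgroup.closure_le]
  rintro _ ⟨⟨v, c⟩, rfl⟩
  obtain ⟨n, hn, rfl⟩ := vecOf_surj v
  have hc : c = 0 ∨ c = 1 := by
    revert c; decide
  rcases hc with rfl | rfl
  · have : (Tg (vecOf n) (0 : ZMod 2) : symplecticGroup (Fin 3) (ZMod 2)) = 1 := by
      apply Subtype.ext
      simp [Tg, T]
    simp only [SetLike.mem_coe]
    rw [this]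
    exact one_mem _
  · simp only [SetLike.mem_coe]
    rw [tv_words n hn]
    exact prodw_mem_closure' _ _ _

theorem card_sp62 : Nat.card (symplecticGroup (Fin 3) (ZMod 2)) = 1451520 := by
  rw [card_symplectic_fin, ZMod.card]
  decide

end Cfsg.Agent.Helper2.SchSp62
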