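import Mathlib

import Cfsg.Agent.Helper2.SchSp62.Facts
import Cfsg.Agent.Helper19.Schur.Cover

/-! The Schur multiplier of `Sp₆(2)` is cyclic of order two: the instance of helper19's labelled
Todd–Coxeter pipeline (upper bound and lattice data). -/

set_option autoImplicit false
set_option linter.all false
set_option maxRecDepth 100000

namespace Cfsg.Agent.Helper2.SchSp62

open Cfsg Cfsg.Agent.Helper19.TCS Cfsg.Agent.Helper19.TCL
  Cfsg.Agent.Helper19.Schur

universe u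

/-! ### The upper bound -/

theorem invF_eq : ∀ l, l < 4 → invF l = inv4 l := by
  intro l hl
  interval_cases l <;> rfl

theorem prodw_replicate {Δ : Type*} [Group Δ] (gc : ℕ → Δ) (l n : ℕ) :
    prodw gc (List.replicate n l) = gc l ^ n := by
  induction n with
  | zero => simp [prodw]
  | succ n ih => rw [List.replicate_succ, prodw, ih, pow_succ]

theorem hcen_of_trivial {Δ : Type u} [Group Δ] (a b : Δ)
    (h : ∀ w ∈ rels, prodw (gc2 a b) w = 1) :
    ∀ ρ g, Commute (prodw (gc2 a b) (rels.getD ρ [])) g := by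
  intro ρ g
  have : prodw (gc2 a b) (rels.getD ρ []) = 1 :=
    forall_getD_of_forall_mem (fun w => prodw (gc2 a b) w = 1) rels [] h rfl ρ
  rw [this]
  exact Commute.one_left g

theorem closedL' {Δ : Type u} [Group Δ] (a b : Δ)
    (hcen : ∀ ρ g, Commute (prodw (gc2 a b) (rels.getD ρ [])) g) :
    SemL 161280 4 524288 7 262144 4096 2048 664616533203329836361252442388563968 invF 24 rotsF subsF
        (gc2 a b) (iotaC (gfam a b rels 7) (gfam_comm a b rels 7 hcen)) (genC 7) ∧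
      ∀ i l, i < 161280 → l < 4 →
        FactL (gc2 a b) (iotaC (gfam a b rels 7) (gfam_comm a b rels 7 hcen)) (genC 7)
          161280 262144 4398046511104 7 262144 4096 2048 ent parF pletF i l :=
  closedL (gc2 a b) _ (genC 7) (gc2_invF a b invF invF_eq)
    (bridge_rels a b rels 7 (by decide) hcen) (bridge_subs a b rels 7 (by norm_num) hcen)

theorem hT1 (Δ : Type u) [Group Δ] (a b : Δ)
    (hgen : Subgroup.closure {a, b} = (⊤ : Subgroup Δ))
    (hrel : ∀ w ∈ rels, prodw (gc2 a b) w = 1) : Finite Δ ∧ Nat.card Δ ≤ 1451520 := by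
  have hcen := hcen_of_trivial a b hrel
  obtain ⟨S, hcl⟩ := closedL' a b hcen
  have ha : a ^ 9 = 1 := by
    have h1 := hrel (List.replicate 9 0) (by decide)
    rw [prodw_replicate] at h1
    exact h1
  have hι : ∀ c, iotaC (gfam a b rels 7) (gfam_comm a b rels 7 hcen) c ∈ Subgroup.zpowers a := by
    intro c
    apply iotaC_mem
    intro i
    unfold gfam
    split_ifs with h
    · exact Subgroup.mem_zpowers a
    · have : prodw (gc2 a b) (rels.getD ((i : ℕ) - 1) []) = 1 :=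
        forall_getD_of_forall_mem (fun w => prodw (gc2 a b) w = 1) rels [] hrel rfl _
      rw [this]
      exact one_mem _
  have := card_le_of_factL a b hgen _ (genC 7) S hcl 9 (by norm_num) ha hι
  exact this

/-- the relations among the relator symbols found by the faces. -/
def lam : Fin 4 → Fin 7 → ℤ :=
  ![![0, 0, -1, -1, 0, 0, 1], ![0, 0, -1, 1, 0, -1, 0], ![0, 0, -4, 0, 0, 2, 0], ![0, 14, 1, 14, -18, 0, 5]]

theorem hT2 (Δ : Type u) [Group Δ] (a b : Δ)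
    (hcen : ∀ ρ g, Commute (prodw (gc2 a b) (rels.getD ρ [])) g) (j : Fin 4) :
    Psi (gfam a b rels 7) (gfam_comm a b rels 7 hcen) (lam j) = 1 := by
  have hinv := gc2_invF a b invF invF_eq
  have hrels := bridge_rels a b rels 7 (by decide) hcen
  have hsubs := bridge_subs a b rels 7 (by norm_num) hcen
  fin_cases j
  · exact psi_eq_one_of_face _ _ 2048 2 [4096, 4096, 4096, 4095, 4096, 4096, 4097] rfl
      ⟨2, by norm_num⟩ _ (face0 (gc2 a b) _ (genC 7) hinv hrels hsubs) (by decide)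
  · exact psi_eq_one_of_face _ _ 2048 12 [24576, 24576, 24575, 24578, 24576, 24575, 24576] rfl
      ⟨3, by norm_num⟩ _ (face1 (gc2 a b) _ (genC 7) hinv hrels hsubs) (by decide)
  · exact psi_eq_one_of_face _ _ 2048 2 [4096, 4096, 4093, 4096, 4096, 4098, 4096] rfl
      ⟨2, by norm_num⟩ _ (face2 (gc2 a b) _ (genC 7) hinv hrels hsubs) (by decide)
  · exact psi_eq_one_of_face _ _ 2048 12 [24576, 24590, 24577, 24591, 24558, 24576, 24581] rfl
      ⟨3, by norm_num⟩ _ (face3 (gc2 a b) _ (genC 7) hinv hrels hsubs) (by decide)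

/-! ### The lattice data -/

def e1 : Fin 7 → ℤ := ![0, 9, 0, 0, 7, 0, 0]
def e2 : Fin 7 → ℤ := ![0, 0, 2, 6, 7, 4, 8]
def c1 : Fin 7 → ℤ := ![0, -3, -14, 0, 4, 0, 0]
def c2 : Fin 7 → ℤ := ![0, 21, 95, 0, -27, 0, 0]
def g0 : Fin 7 → ℤ := ![0, -14, -61, 0, 18, -3, 1]

theorem he1 : ∀ c : Fin 7, e1 c = if (c : ℕ) = 0 then 0 else es0 (rels.getD ((c : ℕ) - 1) []) := by
  decide

theorem he2 : ∀ c : Fin 7, e2 c = if (c : ℕ) = 0 then 0 else es1 (rels.getD ((c : ℕ) - 1) []) := by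
  decide

theorem Efun_eq (e v : Fin 7 → ℤ) : Efun e v =
    v 0 * e 0 + v 1 * e 1 + v 2 * e 2 + v 3 * e 3 + v 4 * e 4 + v 5 * e 5 + v 6 * e 6 := by
  unfold Efun
  rw [Fin.sum_univ_seven]

theorem hc1 : (∀ c : Fin 7, (c : ℕ) = 0 → c1 c = 0) ∧ Efun e1 c1 = 1 ∧ Efun e2 c1 = 0 := by
  refine ⟨by decide, ?_, ?_⟩ <;> rw [Efun_eq] <;> decide

theorem hc2 : (∀ c : Fin 7, (c : ℕ) = 0 → c2 c = 0) ∧ Efun e1 c2 = 0 ∧ Efun e2 c2 = 1 := by
  refine ⟨by decide, ?_, ?_⟩ <;> rw [Efun_eq] <;> decide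

theorem hg0 : ∀ c : Fin 7, (c : ℕ) = 0 → g0 c = 0 := by decide

theorem hL1 : ∀ v : Fin 7 → ℤ, (∀ c : Fin 7, (c : ℕ) = 0 → v c = 0) → Efun e1 v = 0 →
    Efun e2 v = 0 → ∃ (cf : Fin 4 → ℤ) (t : ℤ), v = ∑ j, cf j • lam j + t • g0 := by
  intro v h0 h1 h2
  have h0' : v 0 = 0 := h0 0 rfl
  rw [Efun_eq] at h1 h2
  simp only [e1, e2, Matrix.cons_val_zero, Matrix.cons_val_one, Matrix.cons_val] at h1 h2
  refine ⟨![(-1) * v 1 + (1) * v 2 + (-3) * v 3 + (2) * v 4 + (-4) * v 5 + (-1) * v 6,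
      (-8) * v 1 + (5) * v 2 + (-4) * v 3 + (9) * v 4 + (-10) * v 5 + (1) * v 6,
      (-4) * v 1 + (2) * v 2 + (-2) * v 3 + (3) * v 4 + (-4) * v 5,
      (-4) * v 1 + (1) * v 3 + (-3) * v 4 + (1) * v 5 + (1) * v 6],
    (3) * v 1 + (-1) * v 2 + (-2) * v 3 + (-1) * v 4 + (-1) * v 5 + (-3) * v 6, ?_⟩
  funext c
  rw [Fin.sum_univ_four]
  fin_cases c <;>
    simp [lam, g0] <;> omega

theorem hL2 : ∃ cf : Fin 4 → ℤ, ((2 : ℕ) : ℤ) • g0 = ∑ j, cf j • lam j := by
  refine ⟨![12, 40, 17, -2], ?_⟩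
  funext c
  rw [Fin.sum_univ_four]
  fin_cases c <;> simp [lam, g0]

end Cfsg.Agent.Helper2.SchSp62
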