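import Cfsg.Agent.Helper2.SchSp62.MTab

set_option autoImplicit false
set_option linter.all false
set_option maxRecDepth 1000000
set_option maxHeartbeats 0

namespace Cfsg.Agent.Helper2.SchSp62

theorem okM40 : OKM (40 * 1000) 1000 := by decide +kernel
theorem okM41 : OKM (41 * 1000) 1000 := by decide +kernel
theorem okM42 : OKM (42 * 1000) 1000 := by decide +kernel
theorem okM43 : OKM (43 * 1000) 1000 := by decide +kernel

end Cfsg.Agent.Helper2.SchSp62
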