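import Cfsg.Agent.Helper2.SchSp62.MTab

set_option autoImplicit false
set_option linter.all false
set_option maxRecDepth 1000000
set_option maxHeartbeats 0

namespace Cfsg.Agent.Helper2.SchSp62

theorem okM112 : OKM (112 * 1000) 1000 := by decide +kernel
theorem okM113 : OKM (113 * 1000) 1000 := by decide +kernel
theorem okM114 : OKM (114 * 1000) 1000 := by decide +kernel
theorem okM115 : OKM (115 * 1000) 1000 := by decide +kernel

end Cfsg.Agent.Helper2.SchSp62
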