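import Mathlib
import Cfsg.Agent.Helper19.TCR.Model
import Cfsg.Agent.Helper2.SchSp62.MChk0
import Cfsg.Agent.Helper2.SchSp62.MChk1
import Cfsg.Agent.Helper2.SchSp62.MChk2
import Cfsg.Agent.Helper2.SchSp62.MChk3
import Cfsg.Agent.Helper2.SchSp62.MChk4
import Cfsg.Agent.Helper2.SchSp62.MChk5
import Cfsg.Agent.Helper2.SchSp62.MChk6
import Cfsg.Agent.Helper2.SchSp62.MChk7
import Cfsg.Agent.Helper2.SchSp62.MChk8
import Cfsg.Agent.Helper2.SchSp62.MChk9
import Cfsg.Agent.Helper2.SchSp62.MChk10
import Cfsg.Agent.Helper2.SchSp62.MChk11
import Cfsg.Agent.Helper2.SchSp62.MChk12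
import Cfsg.Agent.Helper2.SchSp62.MChk13
import Cfsg.Agent.Helper2.SchSp62.MChk14
import Cfsg.Agent.Helper2.SchSp62.MChk15
import Cfsg.Agent.Helper2.SchSp62.MChk16
import Cfsg.Agent.Helper2.SchSp62.MChk17
import Cfsg.Agent.Helper2.SchSp62.MChk18
import Cfsg.Agent.Helper2.SchSp62.MChk19
import Cfsg.Agent.Helper2.SchSp62.MChk20
import Cfsg.Agent.Helper2.SchSp62.MChk21
import Cfsg.Agent.Helper2.SchSp62.MChk22
import Cfsg.Agent.Helper2.SchSp62.MChk23
import Cfsg.Agent.Helper2.SchSp62.MChk24
import Cfsg.Agent.Helper2.SchSp62.MChk25
import Cfsg.Agent.Helper2.SchSp62.MChk26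
import Cfsg.Agent.Helper2.SchSp62.MChk27
import Cfsg.Agent.Helper2.SchSp62.MChk28
import Cfsg.Agent.Helper2.SchSp62.MChk29
import Cfsg.Agent.Helper2.SchSp62.MChk30
import Cfsg.Agent.Helper2.SchSp62.MChk31
import Cfsg.Agent.Helper2.SchSp62.MChk32
import Cfsg.Agent.Helper2.SchSp62.MChk33
import Cfsg.Agent.Helper2.SchSp62.MChk34
import Cfsg.Agent.Helper2.SchSp62.MChk35
import Cfsg.Agent.Helper2.SchSp62.MChk36
import Cfsg.Agent.Helper2.SchSp62.MChk37
import Cfsg.Agent.Helper2.SchSp62.MChk38
import Cfsg.Agent.Helper2.SchSp62.MChk39
import Cfsg.Agent.Helper2.SchSp62.MChk40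

set_option autoImplicit false
set_option linter.all false
set_option maxRecDepth 1000000
set_option maxHeartbeats 0

namespace Cfsg.Agent.Helper2.SchSp62

open Cfsg.Agent.Helper19.TCS Cfsg.Agent.Helper19.TCM Cfsg.Agent.Helper19.Schur

theorem okM_all : ∀ p, p < 162 → OKM (p * 1000) 1000 := by
  intro p hp
  interval_cases p
  · exact okM0
  · exact okM1
  · exact okM2
  · exact okM3
  · exact okM4
  · exact okM5
  · exact okM6
  · exact okM7
  · exact okM8
  · exact okM9
  · exact okM10
  · exact okM11
  · exact okM12
  · exact okM13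
  · exact okM14
  · exact okM15
  · exact okM16
  · exact okM17
  · exact okM18
  · exact okM19
  · exact okM20
  · exact okM21
  · exact okM22
  · exact okM23
  · exact okM24
  · exact okM25
  · exact okM26
  · exact okM27
  · exact okM28
  · exact okM29
  · exact okM30
  · exact okM31
  · exact okM32
  · exact okM33
  · exact okM34
  · exact okM35
  · exact okM36
  · exact okM37
  · exact okM38
  · exact okM39
  · exact okM40
  · exact okM41
  · exact okM42
  · exact okM43
  · exact okM44
  · exact okM45
  · exact okM46
  · exact okM47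
  · exact okM48
  · exact okM49
  · exact okM50
  · exact okM51
  · exact okM52
  · exact okM53
  · exact okM54
  · exact okM55
  · exact okM56
  · exact okM57
  · exact okM58
  · exact okM59
  · exact okM60
  · exact okM61
  · exact okM62
  · exact okM63
  · exact okM64
  · exact okM65
  · exact okM66
  · exact okM67
  · exact okM68
  · exact okM69
  · exact okM70
  · exact okM71
  · exact okM72
  · exact okM73
  · exact okM74
  · exact okM75
  · exact okM76
  · exact okM77
  · exact okM78
  · exact okM79
  · exact okM80
  · exact okM81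
  · exact okM82
  · exact okM83
  · exact okM84
  · exact okM85
  · exact okM86
  · exact okM87
  · exact okM88
  · exact okM89
  · exact okM90
  · exact okM91
  · exact okM92
  · exact okM93
  · exact okM94
  · exact okM95
  · exact okM96
  · exact okM97
  · exact okM98
  · exact okM99
  · exact okM100
  · exact okM101
  · exact okM102
  · exact okM103
  · exact okM104
  · exact okM105
  · exact okM106
  · exact okM107
  · exact okM108
  · exact okM109
  · exact okM110
  · exact okM111
  · exact okM112
  · exact okM113
  · exact okM114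
  · exact okM115
  · exact okM116
  · exact okM117
  · exact okM118
  · exact okM119
  · exact okM120
  · exact okM121
  · exact okM122
  · exact okM123
  · exact okM124
  · exact okM125
  · exact okM126
  · exact okM127
  · exact okM128
  · exact okM129
  · exact okM130
  · exact okM131
  · exact okM132
  · exact okM133
  · exact okM134
  · exact okM135
  · exact okM136
  · exact okM137
  · exact okM138
  · exact okM139
  · exact okM140
  · exact okM141
  · exact okM142
  · exact okM143
  · exact okM144
  · exact okM145
  · exact okM146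
  · exact okM147
  · exact okM148
  · exact okM149
  · exact okM150
  · exact okM151
  · exact okM152
  · exact okM153
  · exact okM154
  · exact okM155
  · exact okM156
  · exact okM157
  · exact okM158
  · exact okM159
  · exact okM160
  · exact okM161

theorem okM_row : ∀ i, i < 161280 →
    (∀ l, l < 4 → okEdgeM 161280 262144 2 invMF entM i l = true) ∧ okRelsM 262144 2 entM relsPM i = true := by
  intro i hi
  have hp : i / 1000 < 162 := by omega
  have h1 : i / 1000 * 1000 ≤ i := Nat.div_mul_le_self i 1000
  have h2 : i < i / 1000 * 1000 + 1000 := by omega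
  exact okRowsM_spec relsPM (i / 1000 * 1000) 1000 (okM_all (i / 1000) hp) i h1 h2 hi

theorem modelOK : ModelOK 161280 262144 2 invMF entM where
  hN := by norm_num
  hmd := by norm_num
  hinv := by
    intro l hl
    interval_cases l <;> rfl
  edge := fun i l hi hl => (okM_row i hi).1 l hl

theorem relsPM_eq : relsPM = relsM.zip phisM := by decide

theorem relsM_ok : ∀ i, i < 161280 → okRelsM 262144 2 entM (relsM.zip phisM) i = true := by
  intro i hi
  rw [← relsPM_eq]
  exact (okM_row i hi).2

end Cfsg.Agent.Helper2.SchSp62
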