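import Mathlib
import Cfsg.Agent.Helper2.SchSp62.Grp
import Cfsg.Agent.Helper2.SchSp62.Inst
import Cfsg.Agent.Helper2.SchSp62.MFacts
import Cfsg.Agent.Helper19.Schur.Table
import Cfsg.Agent.Helper2.SpCenter
import Cfsg.Prelude.Def_Classical

/-! The Schur multiplier of `Sp₆(2) = PSp₆(2)` is cyclic of order two: transport of the concrete
generators to an arbitrary field with two elements, and the final statement. -/

set_option autoImplicit false
set_option linter.all false
set_option maxRecDepth 100000

namespace Cfsg.Agent.Helper2.SchSp62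

open Matrix Cfsg Cfsg.Agent.Helper2.Sp Cfsg.Agent.Helper19.TCS Cfsg.Agent.Helper19.TCL
  Cfsg.Agent.Helper19.TCM Cfsg.Agent.Helper19.Schur

section spmap

variable {l : Type*} [DecidableEq l] [Fintype l] {R S : Type*} [CommRing R] [CommRing S]

theorem J_map (f : R →+* S) : (J l R).map f = J l S := by
  unfold J
  rw [Matrix.fromBlocks_map]
  congr 1
  · ext i j; simp [Matrix.map_apply]
  · ext i j; simp [Matrix.map_apply, Matrix.neg_apply, Matrix.one_apply]
  · ext i j; simp [Matrix.map_apply, Matrix.one_apply]
  · ext i j; simp [Matrix.map_apply]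

/-- a ring homomorphism acts on the symplectic group -/
def spHom (f : R →+* S) : symplecticGroup l R →* symplecticGroup l S where
  toFun A := ⟨A.1.map f, by
    rw [SymplecticGroup.mem_iff]
    have h := congrArg (fun M => M.map f) (SymplecticGroup.mem_iff.mp A.2)
    simp only [Matrix.map_mul, J_map] at h
    rw [← Matrix.transpose_map]
    exact h⟩
  map_one' := by
    apply Subtype.ext
    show (1 : Matrix (l ⊕ l) (l ⊕ l) R).map f = 1
    simp
  map_mul' A B := by
    apply Subtype.ext
    show (A.1 * B.1).map f = A.1.map f * B.1.map f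
    rw [Matrix.map_mul]

@[simp] theorem spHom_val (f : R →+* S) (A : symplecticGroup l R) :
    ((spHom f A : symplecticGroup l S) : Matrix (l ⊕ l) (l ⊕ l) S) = A.1.map f := rfl

/-- a ring isomorphism acts on the symplectic group -/
def spMap (e : R ≃+* S) : symplecticGroup l R ≃* symplecticGroup l S :=
  { spHom (e : R →+* S) with
    invFun := spHom (e.symm : S →+* R)
    left_inv := by
      intro A
      apply Subtype.ext
      ext i j
      simp [spHom_val]
    right_inv := by
      intro A
      apply Subtype.ext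
      ext i j
      simp [spHom_val] }

end spmap

/-! ### The model data -/

def c1m : Fin 7 → ℤ := ![0, -87, 384, 0, 112, -380, -4]
def c2m : Fin 7 → ℤ := ![0, 609, -2685, 0, -783, 2657, 28]

theorem relsG_eq : relsG = rels := by decide
theorem relsM_eq : relsM = rels := by decide

universe u

/-- the Schur multiplier of `Sp₆(F)`, `|F| = 2`, is cyclic of order two. -/
theorem schur_sp {F : Type u} [Field F] [Fintype F] (hF : Fintype.card F = 2) :
    Cfsg.HasCyclicSchurMultiplier (symplecticGroup (Fin 3) F) 2 := by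
  let e : ZMod 2 ≃+* F := ZMod.ringEquivOfPrime F Nat.prime_two hF
  let φ : symplecticGroup (Fin 3) (ZMod 2) ≃* symplecticGroup (Fin 3) F := spMap e
  have hcard : Nat.card (symplecticGroup (Fin 3) F) = 1451520 := by
    rw [← Nat.card_congr φ.toEquiv, card_sp62]
  haveI : Finite (symplecticGroup (Fin 3) F) :=
    Nat.finite_of_card_ne_zero (by rw [hcard]; norm_num)
  have hxy : Subgroup.closure {φ xG, φ yG} = (⊤ : Subgroup (symplecticGroup (Fin 3) F)) := by
    have h := congrArg (Subgroup.map φ.toMonoidHom) closure_xy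
    have h2 : Subgroup.map φ.toMonoidHom ⊤ = ⊤ :=
      Subgroup.map_top_of_surjective φ.toMonoidHom φ.surjective
    rw [MonoidHom.map_closure, h2] at h
    rw [← h]
    congr 1
    simp [Set.image_pair]
  have hrelF : ∀ w ∈ rels, prodw (gc2 (φ xG) (φ yG)) w = 1 := by
    intro w hw
    have h := map_prodw φ.toMonoidHom xG yG w
    rw [hrelG w (relsG_eq ▸ hw), map_one] at h
    exact h.symm
  have hT1' : ∀ (Δ : Type u) [Group Δ] (a b : Δ), Subgroup.closure {a, b} = (⊤ : Subgroup Δ) →
      (∀ w ∈ rels, prodw (gc2 a b) w = 1) →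
      Finite Δ ∧ Nat.card Δ ≤ Nat.card (symplecticGroup (Fin 3) F) := by
    intro Δ _ a b h1 h2
    rw [hcard]
    exact hT1 Δ a b h1 h2
  have hM := relsM_ok
  rw [relsM_eq] at hM
  refine ⟨?_, ?_⟩
  · exact exists_stem_of_table (φ xG) (φ yG) hxy rels hT1' hrelF modelOK (by norm_num) phisM
      (by decide) (by decide) hM 7 e1 e2 c1m c2m he1 he2
      (by constructor <;> rw [Efun_eq] <;> decide) (by constructor <;> rw [Efun_eq] <;> decide)
      (by rw [Fin.sum_univ_seven]; decide) (by rw [Fin.sum_univ_seven]; decide) [1] (by decide)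
  · exact exists_surjective_of_stem (φ xG) (φ yG) hxy rels 7 (by decide) hrelF hT1' 4 lam hT2
      e1 e2 he1 he2 c1 c2 g0 2 hc1 hc2 hg0 hL1 hL2

/-- the centre of `Sp₆(F)`, `|F| = 2`, is trivial. -/
theorem center_eq_bot {F : Type u} [Field F] [Fintype F] (hF : Fintype.card F = 2) :
    Subgroup.center (symplecticGroup (Fin 3) F) = ⊥ := by
  rw [← Subgroup.card_eq_one, card_center, Nat.card_units, Nat.card_eq_fintype_card, hF]
  rfl

/-- the Schur multiplier of `PSp₆(F)`, `|F| = 2`, is cyclic of order two. -/
theorem schur_psp {F : Type u} [Field F] [Fintype F] (hF : Fintype.card F = 2) :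
    Cfsg.HasCyclicSchurMultiplier (Cfsg.PSp 3 F) 2 := by
  have e : symplecticGroup (Fin 3) F ≃* Cfsg.PSp 3 F :=
    (QuotientGroup.quotientBot (G := symplecticGroup (Fin 3) F)).symm.trans
      (QuotientGroup.quotientMulEquivOfEq (center_eq_bot hF).symm)
  exact hasSchurMultiplier_of_mulEquiv e (schur_sp hF)

end Cfsg.Agent.Helper2.SchSp62
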